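import Groth.Agent.Ref1Lib.Gen
import Groth.Agent.Ref1Lib.Ops
import Groth.Agent.RefHullLib.BigOpen
import Groth.Agent.SurfExtLib.FinSupp
import Groth.Agent.CurvLib.EulerTensor
import Groth.Agent.InjModLib.ExtCrit
import Groth.Prelude.Def_TorSh

/-!
# Torsion free modules on integral schemes; extension of maps across small sets
-/

set_option autoImplicit false
set_option linter.style.haveILetI false
set_option linter.unusedSectionVars false
set_option backward.isDefEq.respectTransparency false
set_option backward.isDefEq.respectTransparency.types false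
universe u

open CategoryTheory CategoryTheory.Limits AlgebraicGeometry TopologicalSpace Opposite
open CohCmpLib (stk)

noncomputable section

namespace PicOneLib

variable {X : Scheme.{u}} [IsIntegral X]

local notation "η" => genericPoint X

/-- A torsion free quasi-coherent module embeds in its generic stalk. -/
theorem spec_eq_zero {M : X.Modules} [Coh.IsQCoh M] (hM : TorSh.IsTorsionFree M) (x : X) (w : stk M x)
    (h : Ref1Lib.spec M x w = 0) : w = 0 := by
  obtain ⟨V, hxV, t, rfl⟩ := ProjFormLib.exists_ger M x w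
  obtain ⟨U, hU, hxU, hUV⟩ := exists_isAffineOpen_mem_and_subset (x := x) hxV
  have hηU := RefHullLib.mem_of_nonempty hxU
  letI := Module.compHom (M.presheaf.stalk (genericPoint X)) (X.presheaf.germ U _ hηU).hom
  haveI := FlatLib.isLocalizedModule_germLin M hU hηU
  let t' : Γ(M, U) := AmpleLib.res M hUV t
  have e : ProjFormLib.ger M x hxV t = ProjFormLib.ger M x hxU t' := (ProjFormLib.ger_res M hUV x hxU t).symm
  rw [e] at h ⊢
  have h0 : FlatLib.germLin M hηU t' = FlatLib.germLin M hηU 0 := by
    rw [map_zero]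
    exact (Ref1Lib.spec_germ M hxU t').symm.trans h
  obtain ⟨s, hs⟩ := (IsLocalizedModule.eq_iff_exists (hU.primeIdealOf ⟨_, hηU⟩).asIdeal.primeCompl _).1 h0
  haveI := hM x
  have hs0 : X.presheaf.germ U x hxU (s : Γ(X, U)) ≠ 0 := fun h => s.2 (by
    rw [germ_injective_of_isIntegral X x hxU (h.trans (map_zero _).symm)]
    exact Ideal.zero_mem _)
  refine Module.IsTorsionFree.isSMulRegular (M := M.presheaf.stalk x) (IsRegular.of_ne_zero hs0) ?_
  show X.presheaf.germ U x hxU (s : Γ(X, U)) • ProjFormLib.ger M x hxU t' =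
    X.presheaf.germ U x hxU (s : Γ(X, U)) • 0
  rw [smul_zero, ← ProjFormLib.ger_smul]
  refine (congrArg (ProjFormLib.ger M x hxU) (show (s : Γ(X, U)) • t' = (s : Γ(X, U)) • (0 : Γ(M, U)) from hs)).trans ?_
  rw [smul_zero]
  exact CohCmpLib.ger_zero M x hxU

/-- A map to a torsion free module vanishing generically vanishes. -/
theorem eq_zero_of_generic {A M : X.Modules} [Coh.IsQCoh M] (hM : TorSh.IsTorsionFree M) (φ : A ⟶ M)
    (h : ∀ v, FLI.sMap φ η v = 0) : φ = 0 :=
  InjModLib.hom_ext_stalks φ 0 fun x t => by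
    show FLI.sMap φ x t = FLI.sMap (0 : A ⟶ M) x t
    rw [FLI.sMap_zero]
    refine spec_eq_zero hM x _ ?_
    exact (Ref1Lib.spec_map φ x t).trans (h _)

/-- No maps from a module with trivial generic stalk to a torsion free one. -/
theorem eq_zero_of_subsingleton {A M : X.Modules} [Coh.IsQCoh M] (hM : TorSh.IsTorsionFree M) (φ : A ⟶ M)
    (h : Subsingleton (stk A η)) : φ = 0 :=
  eq_zero_of_generic hM φ fun v => by rw [Subsingleton.elim v 0, map_zero]

/-- Submodules of torsion free modules are torsion free. -/
theorem torsionFree_of_mono {A M : X.Modules} (φ : A ⟶ M) [Mono φ] (hM : TorSh.IsTorsionFree M) :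
    TorSh.IsTorsionFree A := fun x =>
  haveI : Module.IsTorsionFree (X.presheaf.stalk x) ((DerSch.stalkFunctor X x).obj M) := hM x
  Function.Injective.moduleIsTorsionFree ((DerSch.stalkFunctor X x).map φ).hom
    (FLI.sMap_injective φ x) (fun c a => map_smul _ c a)

theorem torsionFree_of_isFinLocFree {M : X.Modules} (h : FlatMod.IsFinLocFree M) : TorSh.IsTorsionFree M := fun x =>
  haveI := MiscFlat6.free_stalk_of_isFinLocFree h x
  inferInstance

/-- A map from a torsion free module injective at the generic point is mono. -/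
theorem mono_of_generic [IsLocallyNoetherian X] {A B : X.Modules} (hA : Coh.IsCoh A) (hAtf : TorSh.IsTorsionFree A)
    (hB : Coh.IsCoh B) (φ : A ⟶ B) (h : Function.Injective (FLI.sMap φ η)) : Mono φ := by
  haveI := hA.1
  refine Abelian.mono_of_kernel_ι_eq_zero φ (eq_zero_of_subsingleton hAtf _ (subsingleton_of_forall_eq 0 fun v => ?_))
  refine FLI.sMap_injective (kernel.ι φ) η (h ?_)
  rw [← FLI.sMap_comp, kernel.condition, FLI.sMap_zero, map_zero, map_zero]

/-- Vanishing generic rank. -/
theorem subsingleton_of_genRank {A : X.Modules} [IsLocallyNoetherian X] (hA : Coh.IsCoh A)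
    (h : CurvLib.genRank A = 0) : Subsingleton (stk A η) := by
  haveI : Module.Finite (X.presheaf.stalk η) (A.presheaf.stalk η) := SurfExtLib.finite_stk hA η
  haveI : Module.Free (X.presheaf.stalk η) (A.presheaf.stalk η) := Module.Free.of_divisionRing X.functionField _
  exact Module.subsingleton_of_rank_zero (R := X.presheaf.stalk η) (M := A.presheaf.stalk η) (by
    rw [← Module.finrank_eq_rank]
    exact_mod_cast h)

variable [IsLocallyNoetherian X]

/-- Maps extend across a closed set where the target has depth two. -/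
theorem exists_extend {A B W : X.Modules} (f : A ⟶ B) (U : X.Opens)
    (hf : ∀ x ∈ U, Function.Bijective (FLI.sMap f x)) (hW : Coh.IsCoh W)
    (hd : ∀ x : X, x ∉ U → (2 : ℕ∞) ≤ LocCoh.depth (X.presheaf.stalk x) (W.presheaf.stalk x)) (h : A ⟶ W) :
    ∃ g : B ⟶ W, f ≫ g = h := by
  let R := Scheme.Modules.restrictFunctor U.ι
  let adj := Scheme.Modules.restrictAdjunction U.ι
  haveI := RefHullLib.isIso_unit_of_depth U hW hd
  haveI : IsIso (R.map f) := RefHullLib.isIso_restrict U.ι f fun v => by
    refine (congrArg Function.Bijective (funext fun w => ?_)).mpr (hf (U.ι v) v.2)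
    obtain ⟨V, hx, s, rfl⟩ := TopCat.Presheaf.exists_germ_eq A.presheaf (x := U.ι v) w
    exact (RefHull.stalkMapₗ_germ f (U.ι v) hx s).trans (DerSch.stalkFunctor_map_germ (U.ι v) f V hx s).symm
  refine ⟨adj.homEquiv B (R.obj W) (inv (R.map f) ≫ R.map h) ≫ inv (adj.unit.app W), ?_⟩
  rw [← Category.assoc, ← Adjunction.homEquiv_naturality_left, ← Category.assoc, IsIso.hom_inv_id,
    Category.id_comp, Adjunction.homEquiv_unit, IsIso.comp_inv_eq]
  exact (adj.unit.naturality h).symm

end PicOneLib

end
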