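import Groth.Agent.PicOneLib.K3
import Groth.Agent.CurvLib.StalkSum

/-!
# Twists by invertible modules; vanishing of `H¹` of invertible modules
-/

set_option autoImplicit false
set_option linter.style.haveILetI false
set_option linter.unusedSectionVars false
set_option backward.isDefEq.respectTransparency false
set_option backward.isDefEq.respectTransparency.types false
universe u

open CategoryTheory CategoryTheory.Limits AlgebraicGeometry TopologicalSpace Polynomial
open StabLib (HPoly hPoly_spec hPoly_eq)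
open HodgeIdxLib (hh)

noncomputable section

namespace PicOneLib

variable {X : Scheme.{u}}

theorem isInvertible_tensorPow {A : X.Modules} (hA : PicF.IsInvertible A) :
    ∀ q : ℕ, PicF.IsInvertible (CohB1.tensorPow A q)
  | 0 => CurvLib.isInvertible_structureModule
  | q + 1 => HilbPolyLib.isInvertible_tensor (isInvertible_tensorPow hA q) hA

/-- A module has an inverse in the Picard group. -/
theorem exists_inverse [PicGrp.Law X] {A : X.Modules} (hA : PicF.IsInvertible A) :
    ∃ (B : X.Modules) (hB : PicF.IsInvertible B), PicGrp.cls B hB = (PicGrp.cls A hA)⁻¹ ∧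
      Nonempty (CohB1.tensorMod B A ≅ Coh.structureModule X) := by
  obtain ⟨B, hB, hBA⟩ := PicGrp.exists_eq_cls ((PicGrp.cls A hA)⁻¹)
  exact ⟨B, hB, hBA.symm, (PicGrp.cls_mul_cls_eq_one_iff hB hA).1 (by rw [← hBA, inv_mul_cancel])⟩

variable (k : Type u) [Field k] {S : Scheme.{u}} [S.Over (Spec (CommRingCat.of k))] [IsIntegral S]
  [IsNoetherian S] [IsProper (S ↘ Spec (CommRingCat.of k))]
  [SmoothOfRelativeDimension 2 (S ↘ Spec (CommRingCat.of k))] (hS : topologicalKrullDim S = 2)
  {L : S.Modules} (hA : CohB1.IsAmple L)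

include k hS hA

/-- Twisting by an invertible module of class `a` translates the Hilbert polynomial. -/
theorem hPoly_tensor [PicGrp.Law S] {M : S.Modules} (hM : PicF.IsInvertible M) {a : ℤ}
    (ha : PicGrp.cls M hM = PicGrp.cls L hA.1 ^ a) {F : S.Modules} (hF : Coh.IsCoh F) :
    HPoly k L (CohB1.tensorMod M F) = (HPoly k L F).comp (Polynomial.X + C (a : ℚ)) := by
  refine eq_of_infinite_eval_eq _ _ (Set.Infinite.mono (s := (fun m : ℕ => (m : ℚ)) '' Set.Ici a.natAbs) ?_
    ((Set.Ici_infinite _).image (fun x _ y _ h => Nat.cast_injective h)))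
  rintro _ ⟨m, hm, rfl⟩
  obtain ⟨p, hp⟩ : ∃ p : ℕ, (p : ℤ) = a + m := ⟨(a + m).toNat, Int.toNat_of_nonneg (by
    simp only [Set.mem_Ici] at hm; omega)⟩
  have key : (PicGrp.cls M hM * PicGrp.cls L hA.1 ^ m : PicLoc.PicSet S) = PicGrp.cls L hA.1 ^ p := by
    rw [ha, ← zpow_natCast, ← zpow_natCast, ← zpow_add, hp]
  have key' := congrArg Subtype.val key
  rw [PicGrp.mul_val, PicGrp.cls_pow_val, PicGrp.cls_pow_val, PicGrp.cls_val, PicGrp.mulCl_cl,
    PicGrp.cl_eq_cl_iff] at key'
  obtain ⟨e⟩ := key'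
  show (HPoly k L (CohB1.tensorMod M F)).eval (m : ℚ) = ((HPoly k L F).comp _).eval (m : ℚ)
  rw [eval_comp, eval_add, eval_X, eval_C, show (m : ℚ) + (a : ℚ) = ((p : ℕ) : ℚ) by
      rw [← Int.cast_natCast (R := ℚ) p, hp]; push_cast; ring,
    ← hPoly_spec hA (HilbPolyLib.isCoh_tensor hM hF) m, ← hPoly_spec hA hF p]
  exact_mod_cast CurvLib.euler_congr (k := k) (HilbPolyLib.congrLeft (HilbPolyLib.swapIso M F) _ ≪≫
    HilbPolyLib.assocIso F M (CohB1.tensorPow L m) ≪≫ HilbPolyLib.congrRight F e)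

theorem genRank_tensor [PicGrp.Law S] {M : S.Modules} (hM : PicF.IsInvertible M) {a : ℤ}
    (ha : PicGrp.cls M hM = PicGrp.cls L hA.1 ^ a) {F : S.Modules} (hF : Coh.IsCoh F) :
    CurvLib.genRank (CohB1.tensorMod M F) = CurvLib.genRank F := by
  have h := c2_eq k hS hA (HilbPolyLib.isCoh_tensor hM hF)
  rw [c2, hPoly_tensor k hS hA hM ha hF, (coeff_comp_add (deg_le k hS hA hF) _).1, ← c2, c2_eq k hS hA hF] at h
  exact_mod_cast (mul_right_cancel₀ (alpha_pos' k hS hA).ne' h).symm

/-- A module with finite support has constant nonnegative Hilbert polynomial. -/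
theorem hPoly_finite {T : S.Modules} (hT : Coh.IsCoh T) (h : topologicalKrullDim (CohB1.support T) ≤ 0) :
    HPoly k L T = C ((HPoly k L T).coeff 0) ∧ 0 ≤ (HPoly k L T).coeff 0 ∧
      ((HPoly k L T).coeff 0 = 0 → IsZero T) := by
  have hd := StabLib.hPoly_deg (k := k) hA hT (d := 0) (by exact_mod_cast h)
  have e := eq_C_of_natDegree_le_zero hd
  refine ⟨e, StabLib.coeff_nonneg hd (StabLib.hPoly_nn hA hT), fun h0 => by_contra fun hz => ?_⟩
  exact StabLib.ps_ne_zero (StabLib.hPoly_ps (k := k) hA hT hz) (by rw [e, h0, map_zero])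

end PicOneLib

end
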