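import Groth.Agent.PicOneLib.Sat
import Groth.Agent.AdjFormLib.SmoothDual
import Groth.Agent.CurvLib.RRBasic
import Groth.Agent.VBP1Lib.Tensor
import Groth.Prelude.Def_Canon

/-!
# Hilbert polynomial and sections on a surface with trivial canonical module
-/

set_option autoImplicit false
set_option linter.style.haveILetI false
set_option linter.unusedSectionVars false
set_option backward.isDefEq.respectTransparency false
set_option backward.isDefEq.respectTransparency.types false
universe u

open CategoryTheory CategoryTheory.Limits AlgebraicGeometry TopologicalSpace Polynomial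
open StabLib (HPoly hPoly_spec hPoly_eq)
open CohCmpLib (homMod)

noncomputable section

namespace PicOneLib

variable (k : Type u) [Field k] [IsAlgClosed k] {S : Scheme.{u}} [S.Over (Spec (CommRingCat.of k))]
  [IsIntegral S] [IsNoetherian S] [IsProper (S ↘ Spec (CommRingCat.of k))]
  [SmoothOfRelativeDimension 2 (S ↘ Spec (CommRingCat.of k))] (hS : topologicalKrullDim S = 2)
  {L : S.Modules} (hA : CohB1.IsAmple L)
  {r : ℕ} (ι : S ⟶ CohB1.ProjSpace r k) [IsClosedImmersion ι]
  (hι : ι ≫ CohB1.ProjSpace.toSpec r k = S ↘ Spec (CommRingCat.of k))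
  (hK : Canon.IsTopDiff (S ↘ Spec (CommRingCat.of k)) 2 (Coh.structureModule S))

include hS hA hι hK

theorem euler_twist_zero (F : S.Modules) :
    Curv2.euler k S (ShStab.twist S L F 0) = Curv2.euler k S F :=
  CurvLib.euler_congr (k := k) (HilbPolyLib.swapIso F (Coh.structureModule S) ≪≫ HilbPolyLib.unitLeft F)

theorem euler_eq_eval {F : S.Modules} (hF : Coh.IsCoh F) :
    (Curv2.euler k S F : ℚ) = (HPoly k L F).eval 0 := by
  have h := hPoly_spec (k := k) hA hF 0
  rwa [euler_twist_zero k hS hA ι hι hK, Nat.cast_zero] at h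

variable [PicGrp.Law S] (hgen : ∀ c : PicLoc.PicSet S, ∃ n : ℤ, c = PicGrp.cls L hA.1 ^ n)

include hgen

/-- On a surface with trivial canonical module the Hilbert polynomial of `O` is even. -/
theorem beta_eq_zero : c1 k L (Coh.structureModule S) = 0 := by
  let P := HPoly k L (Coh.structureModule S)
  have hsym : ∀ a : ℤ, P.eval (a : ℚ) = P.eval (-a : ℚ) := fun a => by
    obtain ⟨M, hM, hMa⟩ := PicGrp.exists_eq_cls (PicGrp.cls L hA.1 ^ a)
    obtain ⟨M', hM', hMa'⟩ := PicGrp.exists_eq_cls (PicGrp.cls L hA.1 ^ (-a))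
    have h1 : PicGrp.cls M hM * PicGrp.cls M' hM' = 1 := by rw [← hMa, ← hMa', ← zpow_add, add_neg_cancel, zpow_zero]
    obtain ⟨e⟩ := (PicGrp.cls_mul_cls_eq_one_iff hM hM').1 h1
    haveI : ConnectedSpace S := inferInstance
    have hd : (Curv2.euler k S M : ℚ) = Curv2.euler k S M' := by
      rw [SurfNumLib.euler_dual hS.le ι hι hK hM e]
      exact_mod_cast CurvLib.euler_congr (k := k) (HilbPolyLib.swapIso M' (Coh.structureModule S) ≪≫ HilbPolyLib.unitLeft M')
    rw [euler_eq_eval k hS hA ι hι hK (CurvLib.isCoh_of_isInvertible hM),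
      euler_eq_eval k hS hA ι hι hK (CurvLib.isCoh_of_isInvertible hM'),
      hPoly_class k hS hA hM hMa.symm, hPoly_class k hS hA hM' hMa'.symm] at hd
    simpa [eval_comp] using hd
  obtain ⟨p, q, c, hP⟩ : ∃ p q c, P = C p * Polynomial.X ^ 2 + C q * Polynomial.X + C c :=
    ⟨_, _, _, eq_quadratic_of_degree_le_two
      (natDegree_le_iff_degree_le.1 (deg_le k hS hA (DevissLib.isCoh_structureModule S)))⟩
  have h := hsym 1
  rw [hP] at h
  simp at h
  show P.coeff 1 = 0
  rw [hP]
  simp only [coeff_add, coeff_C_mul, coeff_X_pow, coeff_X, coeff_C]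
  norm_num
  linarith

omit hgen [PicGrp.Law S] in
/-- A section exists if `χ ≥ 1` and there are no maps to `O`. -/
theorem exists_section {F : S.Modules} (hF : Coh.IsCoh F) (hχ : 1 ≤ Curv2.euler k S F)
    (h0 : ∀ φ : F ⟶ Coh.structureModule S, φ = 0) : ∃ s : Coh.structureModule S ⟶ F, s ≠ 0 := by
  obtain ⟨D, hω, hs⟩ := AdjFormLib.nonempty_dualData_smooth k r 2 S ι hι (Coh.structureModule S) hK
  obtain ⟨e⟩ := PnDualLib.nonempty_extX_dual D F hF 0 (by omega) (by omega)
  haveI : Module.Finite k (Coh.HH S F 2) := CurvLib.finite_HH hF 2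
  haveI : Subsingleton (F ⟶ D.ω) := by rw [hω]; exact ⟨fun a b => (h0 a).trans (h0 b).symm⟩
  haveI : Subsingleton (Abelian.Ext F D.ω 0) := Abelian.Ext.homEquiv₀.subsingleton
  haveI : Subsingleton (Module.Dual k (Coh.HH S F (2 - 0))) := e.symm.toEquiv.subsingleton
  have h2 : HodgeIdxLib.hh k F 2 = 0 := by
    show Module.finrank k (Coh.HH S F 2) = 0
    rw [← Subspace.dual_finrank_eq]
    exact Module.finrank_zero_of_subsingleton
  rw [SurfNumLib.euler_eq_three hS.le, h2] at hχ
  refine CurvLib.exists_hom_ne_zero (Module.nontrivial_of_finrank_pos (R := k) ?_)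
  simp only [HodgeIdxLib.hh] at hχ
  omega

end PicOneLib

end
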