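import Groth.Agent.PicOneLib.Twist
import Groth.Agent.SurfExtLib.CBPoint

/-!
# `H¹` of invertible modules on a K3 surface with Picard group generated by the polarisation
-/

set_option autoImplicit false
set_option linter.style.haveILetI false
set_option linter.unusedSectionVars false
set_option backward.isDefEq.respectTransparency false
set_option backward.isDefEq.respectTransparency.types false
set_option maxHeartbeats 1000000
universe u

open CategoryTheory CategoryTheory.Limits AlgebraicGeometry TopologicalSpace Polynomial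
open StabLib (HPoly hPoly_spec hPoly_eq)
open HodgeIdxLib (hh)
open CohCmpLib (stk)

noncomputable section

namespace PicOneLib

variable (k : Type u) [Field k] [IsAlgClosed k] {S : Scheme.{u}} [S.Over (Spec (CommRingCat.of k))]
  [IsIntegral S] [IsNoetherian S] [IsProper (S ↘ Spec (CommRingCat.of k))]
  [SmoothOfRelativeDimension 2 (S ↘ Spec (CommRingCat.of k))] (hS : topologicalKrullDim S = 2)
  {L : S.Modules} (hA : CohB1.IsAmple L)

theorem sMap_smul_hom {A B : S.Modules} (c : k) (φ : A ⟶ B) {z : S} (t : stk A z) :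
    FLI.sMap (c • φ) z t =
      S.presheaf.germ ⊤ z trivial (Coh.toGlobal (S ↘ Spec (CommRingCat.of k)) c) • FLI.sMap φ z t := by
  obtain ⟨U, hz, s, rfl⟩ := ProjFormLib.exists_ger A z t
  refine (ProjFormLib.ger_map (c • φ) z hz s).trans ?_
  rw [KLin.smul_app_apply, ProjFormLib.ger_smul]
  refine congrArg₂ (· • ·) ?_ (ProjFormLib.ger_map φ z hz s).symm
  exact TopCat.Presheaf.germ_res_apply S.presheaf (homOfLE (le_top : U ≤ ⊤)) z hz _

/-- If every nonzero section is an epimorphism, sections are proportional. -/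
theorem eq_smul_of_epi {Q : S.Modules} (hQ : Coh.IsCoh Q) (h : ∀ φ : Coh.structureModule S ⟶ Q, φ ≠ 0 → Epi φ)
    {π : Coh.structureModule S ⟶ Q} (hπ : π ≠ 0) (φ : Coh.structureModule S ⟶ Q) : ∃ c : k, φ = c • π := by
  have hne : (CohB1.support Q).Nonempty := Set.nonempty_iff_ne_empty.2 fun he =>
    hπ ((DevissLib.isZero_of_support_empty he).eq_of_tgt _ _)
  obtain ⟨x, hx, hcl⟩ := (QCohLib.isClosed_support Q hQ.2).exists_closed_singleton hne
  haveI := h π hπ
  obtain ⟨r, hr⟩ : ∃ r : S.presheaf.stalk x, r • FLI.sMap π x (SurfExtLib.oneAt x) = FLI.sMap φ x (SurfExtLib.oneAt x) := by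
    obtain ⟨d, hd⟩ := FLI.sMap_surjective π x (FLI.sMap φ x (SurfExtLib.oneAt x))
    obtain ⟨r, rfl⟩ := SurfExtLib.exists_smul_oneAt x d
    exact ⟨r, (map_smul _ r _).symm.trans hd⟩
  obtain ⟨c, hc⟩ := SurfExtLib.exists_sub_const_mem (k := k) hcl r
  refine ⟨c, by_contra fun hne' => hx ?_⟩
  haveI := h (φ - c • π) (sub_ne_zero.2 hne')
  let g : stk Q x := FLI.sMap π x (SurfExtLib.oneAt x)
  let r' := r - S.presheaf.germ ⊤ x trivial (Coh.toGlobal (S ↘ Spec (CommRingCat.of k)) c)
  have hψ : FLI.sMap (φ - c • π) x (SurfExtLib.oneAt x) = r' • g := by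
    show ((DerSch.stalkFunctor S x).map (φ - c • π)).hom _ = _
    rw [Functor.map_sub]
    show FLI.sMap φ x _ - FLI.sMap (c • π) x _ = _
    rw [sMap_smul_hom k, ← hr]
    exact (sub_smul r _ g).symm
  obtain ⟨d, hd⟩ := FLI.sMap_surjective (φ - c • π) x g
  obtain ⟨e, rfl⟩ := SurfExtLib.exists_smul_oneAt x d
  rw [map_smul, hψ, smul_smul] at hd
  have hu : IsUnit (1 - e * r') := IsLocalRing.isUnit_one_sub_self_of_mem_nonunits _
    ((IsLocalRing.mem_maximalIdeal _).1 (Ideal.mul_mem_left _ e hc))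
  have hg : g = 0 := hu.smul_eq_zero.1 (by rw [sub_smul, one_smul, hd, sub_self])
  refine subsingleton_of_forall_eq (α := stk Q x) 0 fun t => ?_
  obtain ⟨d, rfl⟩ := FLI.sMap_surjective π x t
  obtain ⟨e, rfl⟩ := SurfExtLib.exists_smul_oneAt x d
  rw [map_smul]
  exact (congrArg (e • ·) hg).trans (smul_zero e)

variable {r₀ : ℕ} (ι : S ⟶ CohB1.ProjSpace r₀ k) [IsClosedImmersion ι]
  (hι : ι ≫ CohB1.ProjSpace.toSpec r₀ k = S ↘ Spec (CommRingCat.of k))
  (hK : Canon.IsTopDiff (S ↘ Spec (CommRingCat.of k)) 2 (Coh.structureModule S))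
  [PicGrp.Law S] (hgen : ∀ c : PicLoc.PicSet S, ∃ n : ℤ, c = PicGrp.cls L hA.1 ^ n)

include hS hA hι hK hgen

theorem eval_O (a : ℚ) : (HPoly k L (Coh.structureModule S)).eval a =
    c2 k L (Coh.structureModule S) * a ^ 2 + (HPoly k L (Coh.structureModule S)).coeff 0 := by
  have hβ := beta_eq_zero k hS hA ι hι hK hgen
  obtain ⟨p, q, c, hP⟩ : ∃ p q c, HPoly k L (Coh.structureModule S) = C p * Polynomial.X ^ 2 + C q * Polynomial.X + C c :=
    ⟨_, _, _, eq_quadratic_of_degree_le_two
      (natDegree_le_iff_degree_le.1 (deg_le k hS hA (DevissLib.isCoh_structureModule S)))⟩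
  simp only [c1, c2, hP, coeff_add, coeff_C_mul, coeff_X_pow, coeff_X, coeff_C] at hβ ⊢
  norm_num at hβ ⊢
  simp [hβ]

/-- Sections of a negative twist of the quotient of `O(1)` by a section. -/
theorem section_quot {m : ℕ} (hm : 1 ≤ m) {M : S.Modules} (hM : PicF.IsInvertible M)
    (hMc : PicGrp.cls M hM = PicGrp.cls L hA.1 ^ (-(m : ℤ))) (s : Coh.structureModule S ⟶ L) [Mono s]
    (φ : Coh.structureModule S ⟶ CohB1.tensorMod M (cokernel s)) (hφ : φ ≠ 0) : m = 1 ∧ Epi φ := by
  let O := Coh.structureModule S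
  let T := CurvLib.tensorLeft' M
  have hOc : Coh.IsCoh O := DevissLib.isCoh_structureModule S
  have hO1 : CurvLib.genRank O = 1 := AVAmpleLib.genRank_structureModule S
  have hα := alpha_pos' k hS hA
  have hβ : c1 k L O = 0 := beta_eq_zero k hS hA ι hι hK hgen
  have hLc := CurvLib.isCoh_of_isInvertible hA.1
  have hQ := QCohLib.isCoh_cokernel s hOc.1 hLc
  have hTses := HilbPolyLib.shortExact_tensor hM (ses_coker s)
  haveI : Mono (T.map s) := hTses.mono_f
  haveI : Epi (T.map (cokernel.π s)) := hTses.epi_g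
  let A := T.obj O
  let B := T.obj L
  let Q := T.obj (cokernel s)
  have hAi : PicF.IsInvertible A := HilbPolyLib.isInvertible_tensor hM CurvLib.isInvertible_structureModule
  have hBi : PicF.IsInvertible B := HilbPolyLib.isInvertible_tensor hM hA.1
  have hAc := CurvLib.isCoh_of_isInvertible hAi
  have hBc := CurvLib.isCoh_of_isInvertible hBi
  have hQc : Coh.IsCoh Q := HilbPolyLib.isCoh_tensor hM hQ
  have clA : PicGrp.cls A hAi = PicGrp.cls L hA.1 ^ (-(m : ℤ)) := by
    rw [← hMc, PicGrp.cls_eq_cls_iff]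
    exact ⟨HilbPolyLib.swapIso M O ≪≫ HilbPolyLib.unitLeft M⟩
  have clB : PicGrp.cls B hBi = PicGrp.cls L hA.1 ^ (1 - (m : ℤ)) := by
    have e : PicGrp.cls B hBi = PicGrp.cls M hM * PicGrp.cls L hA.1 :=
      Subtype.ext (PicGrp.cls_mul_cls_val hM hA.1).symm
    rw [e, hMc, ← zpow_add_one]
    congr 1
    ring
  obtain ⟨hA1, hAr⟩ := c1_class k hS hA hAi clA
  obtain ⟨hB1, hBr⟩ := c1_class k hS hA hBi clB
  rw [hβ, zero_add] at hA1 hB1
  push_cast at hA1 hB1
  have ePQ : HPoly k L B = HPoly k L A + HPoly k L Q :=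
    StabLib.hPoly_add (S := ShortComplex.mk (T.map s) (T.map (cokernel.π s)) _) hA hTses hAc hBc hQc
  have rQ : CurvLib.genRank B = CurvLib.genRank A + CurvLib.genRank Q :=
    CurvLib.genRank_add (S := ShortComplex.mk (T.map s) (T.map (cokernel.π s)) _) hTses hAc hBc hQc
  have hQ0 : CurvLib.genRank Q = 0 := by omega
  have hQ1 : c1 k L Q = 2 * c2 k L O := by
    have := congrArg (fun P : ℚ[X] => P.coeff 1) ePQ
    simp only [coeff_add] at this
    change c1 k L B = c1 k L A + c1 k L Q at this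
    linarith
  -- the cokernel of the section is finite
  have hC := QCohLib.isCoh_cokernel φ hOc.1 hQc
  obtain ⟨rC, eC⟩ : CurvLib.genRank Q = CurvLib.genRank (kernel (cokernel.π φ)) + CurvLib.genRank (cokernel φ) ∧
      HPoly k L Q = HPoly k L (kernel (cokernel.π φ)) + HPoly k L (cokernel φ) :=
    ⟨CurvLib.genRank_add (S := ShortComplex.mk _ _ (kernel.condition (cokernel.π φ))) (ses_kernel _)
      (QCohLib.isCoh_kernel _ hQc hC.1) hQc hC, StabLib.hPoly_ker hA (cokernel.π φ) hQc hC⟩
  let ψ : B ⟶ cokernel φ := T.map (cokernel.π s) ≫ cokernel.π φ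
  have hF := QCohLib.isCoh_kernel ψ hBc hC.1
  have hFtf := torsionFree_of_mono (kernel.ι ψ) (torsionFree_of_isFinLocFree
    (CurveVBLib.isFinLocFree_of_rank (CurvLib.locFree_of_isInvertible hBi)))
  have hT0 : T.map s ≫ T.map (cokernel.π s) = 0 := by rw [← T.map_comp, cokernel.condition, T.map_zero]
  let l : A ⟶ kernel ψ := kernel.lift ψ (T.map s) (by simp only [ψ, reassoc_of% hT0, Limits.zero_comp])
  have hl : l ≫ kernel.ι ψ = T.map s := kernel.lift_ι _ _ _
  haveI : Mono l := mono_of_mono_fac hl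
  have eB : CurvLib.genRank B = CurvLib.genRank (kernel ψ) + CurvLib.genRank (cokernel φ) :=
    CurvLib.genRank_add (S := ShortComplex.mk _ _ (kernel.condition ψ)) (ses_kernel ψ) hF hBc hC
  have hF1 : CurvLib.genRank (kernel ψ) = 1 := by omega
  obtain ⟨m1, m2⟩ := c1_mono k hS hA l hAc hF (hAr.trans hF1.symm)
  obtain ⟨n1, -⟩ := c1_mono k hS hA (kernel.ι ψ) hF hBc (hF1.trans hBr.symm)
  obtain ⟨a, -, -, -, -, -, -, ha⟩ := exists_class k hS hA hgen hF hFtf hF1
  rw [hβ, zero_add] at ha
  have ha' : a = 1 - (m : ℤ) := by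
    have h1 : -(m : ℚ) ≤ a := by rw [hA1, ha] at m1; nlinarith
    have h2 : (a : ℚ) ≤ 1 - m := by rw [hB1, ha] at n1; nlinarith
    have h1' : -(m : ℤ) ≤ a := by exact_mod_cast h1
    have h2' : a ≤ 1 - (m : ℤ) := by exact_mod_cast h2
    rcases h2'.lt_or_eq with h | h
    swap
    · exact h
    exfalso
    obtain rfl : a = -(m : ℤ) := by omega
    push_cast at ha
    obtain ⟨r, hr⟩ := exists_extend_finite k hS hAc hF l (m2 (hA1.trans ha.symm))
      (CurveVBLib.isFinLocFree_of_rank (CurvLib.locFree_of_isInvertible hAi)) (𝟙 A)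
    have hr0 : r ≠ 0 := fun h => by
      rw [h, Limits.comp_zero] at hr
      have := c2_eq k hS hA hAc
      rw [c2, StabLib.hPoly_zero hA ((IsZero.iff_id_eq_zero A).2 hr.symm), Polynomial.coeff_zero, hAr,
        Nat.cast_one, one_mul] at this
      exact hα.ne this
    haveI := mono_of_ne_zero k hF hFtf hF1 hAc (torsionFree_of_isFinLocFree
      (CurveVBLib.isFinLocFree_of_rank (CurvLib.locFree_of_isInvertible hAi))) r hr0
    have hrl : r ≫ l = 𝟙 _ := by rw [← cancel_mono r, Category.assoc, hr, Category.comp_id, Category.id_comp]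
    have hk : kernel.ι ψ ≫ T.map (cokernel.π s) = 0 := by
      rw [← Category.id_comp (kernel.ι ψ), ← hrl, Category.assoc, Category.assoc, reassoc_of% hl, hT0, Limits.comp_zero]
    have hd : cokernel.π φ ≫ Abelian.epiDesc ψ (T.map (cokernel.π s)) hk = 𝟙 Q := by
      rw [← cancel_epi (T.map (cokernel.π s)), ← Category.assoc, Category.comp_id]
      exact Abelian.comp_epiDesc ψ _ hk
    refine hφ ?_
    exact (Category.comp_id φ).symm.trans ((congrArg (φ ≫ ·) hd.symm).trans
      (by rw [cokernel.condition_assoc, Limits.zero_comp]))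
  have eψ : HPoly k L B = HPoly k L (kernel ψ) + HPoly k L (cokernel φ) := StabLib.hPoly_ker hA ψ hBc hC
  have hC1 : c1 k L (cokernel φ) = 0 := by
    have := congrArg (fun P : ℚ[X] => P.coeff 1) eψ
    simp only [coeff_add] at this
    change c1 k L B = c1 k L (kernel ψ) + c1 k L (cokernel φ) at this
    rw [ha, ha', hB1] at this
    push_cast at this
    linarith
  obtain ⟨hCC, hC0, hCz⟩ := hPoly_finite k hS hA hC ((c1_torsion k hS hA hC (by omega)).2 hC1)
  -- the kernel of the section has class `-1`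
  let p : O ⟶ kernel (cokernel.π φ) := Abelian.factorThruImage φ
  have hI := QCohLib.isCoh_kernel (cokernel.π φ) hQc hC.1
  have hK' := QCohLib.isCoh_kernel p hOc hI.1
  have eO : HPoly k L (Coh.structureModule S) = HPoly k L (kernel p) + HPoly k L (kernel (cokernel.π φ)) := StabLib.hPoly_ker hA p hOc hI
  have rO : CurvLib.genRank O = CurvLib.genRank (kernel p) + CurvLib.genRank (kernel (cokernel.π φ)) :=
    CurvLib.genRank_add (S := ShortComplex.mk _ _ (kernel.condition p)) (ses_kernel p) hK' hOc hI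
  have hKr : CurvLib.genRank (kernel p) = 1 := by omega
  obtain ⟨c, J, hJ, j, hj, hjd, hJc, hc⟩ := exists_class k hS hA hgen hK' (torsionFree_of_mono (kernel.ι p)
    (torsionFree_of_isFinLocFree (Formal2VBLib.isFinLocFree_structureModule S))) hKr
  haveI := hj
  rw [hβ, zero_add] at hc
  have hI1 : c1 k L (kernel (cokernel.π φ)) = 2 * c2 k L O := by
    have := congrArg (fun P : ℚ[X] => P.coeff 1) eC
    simp only [coeff_add] at this
    change c1 k L Q = c1 k L (kernel (cokernel.π φ)) + c1 k L (cokernel φ) at this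
    linarith
  have hc' : c = -1 := by
    have := congrArg (fun P : ℚ[X] => P.coeff 1) eO
    simp only [coeff_add] at this
    change c1 k L O = c1 k L (kernel p) + c1 k L (kernel (cokernel.π φ)) at this
    rw [hβ, hc, hI1] at this
    have h : (c : ℚ) = -1 := by nlinarith
    exact_mod_cast h
  have hJK := QCohLib.isCoh_cokernel j hK'.1 (CurvLib.isCoh_of_isInvertible hJ)
  obtain ⟨heC, he0, -⟩ := hPoly_finite k hS hA hJK hjd
  have eJ := StabLib.hPoly_coker (k := k) hA j hK' (CurvLib.isCoh_of_isInvertible hJ)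
  rw [hPoly_class k hS hA hJ hJc, hc', heC] at eJ
  rw [hPoly_class k hS hA hBi clB, hPoly_class k hS hA hAi clA, eC, hCC] at ePQ
  have v1 := congrArg (eval (0 : ℚ)) eJ
  have v2 := congrArg (eval (0 : ℚ)) ePQ
  have v3 := congrArg (eval (0 : ℚ)) eO
  simp only [eval_add, eval_comp, eval_C, eval_X, zero_add] at v1 v2 v3
  push_cast at v1 v2
  simp only [eval_O k hS hA ι hι hK hgen] at v1 v2 v3
  have hm' : m = 1 := by
    have h1 : (m : ℚ) ≤ 1 := by nlinarith
    have h1' : m ≤ 1 := by exact_mod_cast h1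
    omega
  subst hm'
  norm_num at v1 v2 v3
  have hCo : (HPoly k L (cokernel φ)).coeff 0 = 0 := by linarith
  exact ⟨rfl, Abelian.epi_of_cokernel_π_eq_zero φ ((hCz hCo).eq_of_tgt _ _)⟩

/-- A nonzero section of `O(1)`. -/
theorem exists_section_L (hq : Module.finrank k (Coh.HH S (Coh.structureModule S) 1) = 0) :
    ∃ s : Coh.structureModule S ⟶ L, Mono s := by
  let O := Coh.structureModule S
  have hLi := hA.1
  have hLc := CurvLib.isCoh_of_isInvertible hLi
  have hOc : Coh.IsCoh O := DevissLib.isCoh_structureModule S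
  have hOtf : TorSh.IsTorsionFree O :=
    torsionFree_of_isFinLocFree (Formal2VBLib.isFinLocFree_structureModule S)
  have hLtf : TorSh.IsTorsionFree L :=
    torsionFree_of_isFinLocFree (CurveVBLib.isFinLocFree_of_rank (CurvLib.locFree_of_isInvertible hLi))
  obtain ⟨hL1, hLr⟩ := c1_class k hS hA hLi (a := 1) (zpow_one _).symm
  have hα := alpha_pos' k hS hA
  have hO1 : CurvLib.genRank O = 1 := AVAmpleLib.genRank_structureModule S
  have hχO : (0 : ℚ) ≤ (HPoly k L O).eval 0 := by
    rw [← euler_eq_eval k hS hA ι hι hK hOc]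
    have : (0 : ℤ) ≤ Curv2.euler k S O := by
      rw [SurfNumLib.euler_eq_three hS.le, show hh k O 1 = 0 from hq]
      omega
    exact_mod_cast this
  have hχ : 1 ≤ Curv2.euler k S L := by
    have h1 : (0 : ℚ) < Curv2.euler k S L := by
      rw [euler_eq_eval k hS hA ι hι hK hLc, hPoly_class k hS hA hLi (a := 1) (zpow_one _).symm]
      rw [eval_O k hS hA ι hι hK hgen] at hχO
      simp only [eval_comp, eval_add, eval_X, eval_C, eval_O k hS hA ι hι hK hgen, Int.cast_one]
      nlinarith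
    have h2 : (0 : ℤ) < Curv2.euler k S L := by exact_mod_cast h1
    omega
  obtain ⟨s, hs⟩ := exists_section k hS hA ι hι hK hLc hχ fun φ => by_contra fun hφ => by
    haveI := mono_of_ne_zero k hLc hLtf hLr hOc hOtf φ hφ
    have := (c1_mono k hS hA φ hLc hOc (hLr.trans hO1.symm)).1
    rw [hL1, Int.cast_one, mul_one] at this
    linarith
  exact ⟨s, mono_of_ne_zero k hOc hOtf hO1 hLc hLtf s hs⟩

/-- `H¹` of an invertible module of class `≤ 0` vanishes. -/
theorem h1_neg (hq : Module.finrank k (Coh.HH S (Coh.structureModule S) 1) = 0) :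
    ∀ (m : ℕ) {M : S.Modules} (hM : PicF.IsInvertible M),
      PicGrp.cls M hM = PicGrp.cls L hA.1 ^ (-(m : ℤ)) → hh k M 1 = 0 := by
  intro m
  induction m with
  | zero =>
    intro M hM h
    rw [Nat.cast_zero, neg_zero, zpow_zero] at h
    obtain ⟨e⟩ := (PicGrp.cls_eq_one_iff hM).1 h
    exact (HodgeIdxLib.hh_congr (k := k) e 1).trans hq
  | succ m ih =>
    intro M hM hMc
    obtain ⟨s, hs⟩ := exists_section_L k hS hA ι hι hK hgen hq
    haveI := hs
    let O := Coh.structureModule S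
    let T := CurvLib.tensorLeft' M
    have hTses := HilbPolyLib.shortExact_tensor hM (ses_coker s)
    have hBi : PicF.IsInvertible (T.obj L) := HilbPolyLib.isInvertible_tensor hM hA.1
    have clB : PicGrp.cls (T.obj L) hBi = PicGrp.cls L hA.1 ^ (-(m : ℤ)) := by
      have e : PicGrp.cls (T.obj L) hBi = PicGrp.cls M hM * PicGrp.cls L hA.1 :=
        Subtype.ext (PicGrp.cls_mul_cls_val hM hA.1).symm
      rw [e, hMc, ← zpow_add_one]
      congr 1
      push_cast
      ring
    have hB0 := ih hBi clB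
    haveI := CurvLib.finite_HH (k := k) (CurvLib.isCoh_of_isInvertible hBi) 1
    haveI : Subsingleton (Coh.HH S (T.obj L) 1) := (Module.finrank_zero_iff (R := k)).1 hB0
    have hsurj : LinearMap.range (CurvLib.hMap (k := k) (T.map (cokernel.π s)) 0) = ⊤ := by
      refine eq_top_iff.2 fun y _ => ?_
      obtain ⟨φ, rfl⟩ := (GenusOneSSLib.homEquiv (k := k) (T.obj (cokernel s))).surjective y
      by_cases hφ : φ = 0
      · rw [hφ, map_zero]; exact Submodule.zero_mem _
      obtain ⟨h1, -⟩ := section_quot k hS hA ι hι hK hgen (Nat.succ_pos m) hM hMc s φ hφ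
      obtain rfl : m = 0 := by omega
      rw [Nat.cast_zero, neg_zero, zpow_zero] at clB
      obtain ⟨e⟩ := (PicGrp.cls_eq_one_iff hBi).1 clB
      let π : O ⟶ T.obj (cokernel s) := e.inv ≫ T.map (cokernel.π s)
      have hπ : π ≠ 0 := fun h => by
        haveI : Epi (T.map (cokernel.π s)) := hTses.epi_g
        haveI : Epi π := epi_comp _ _
        haveI : Epi (0 : O ⟶ T.obj (cokernel s)) := h ▸ ‹Epi π›
        exact hφ ((IsZero.of_epi_zero O (T.obj (cokernel s))).eq_of_tgt _ _)
      obtain ⟨c, rfl⟩ := eq_smul_of_epi k (HilbPolyLib.isCoh_tensor hM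
        (QCohLib.isCoh_cokernel s (DevissLib.isCoh_structureModule S).1 (CurvLib.isCoh_of_isInvertible hA.1)))
        (fun φ hφ => (section_quot k hS hA ι hι hK hgen (Nat.succ_pos 0) hM hMc s φ hφ).2) hπ φ
      rw [map_smul]
      refine Submodule.smul_mem _ c ⟨GenusOneSSLib.homEquiv (k := k) (T.obj L) e.inv, ?_⟩
      exact (CurvLib.hMap_comp _ _ _ _).symm
    have h3 : LinearMap.ker (CurvLib.hDel (k := k) hTses 0) = ⊤ := (CurvLib.exact₃ (k := k) hTses 0).symm.trans hsurj
    have h1 : LinearMap.ker (CurvLib.hMap (k := k) (T.map s) 1) = ⊥ := by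
      rw [show LinearMap.ker (CurvLib.hMap (k := k) (T.map s) 1) = LinearMap.range (CurvLib.hDel (k := k) hTses 0)
        from (CurvLib.exact₁ (k := k) hTses 0).symm, LinearMap.range_eq_bot.2 (LinearMap.ker_eq_top.1 h3)]
    haveI : Subsingleton (Coh.HH S (T.obj O) 1) := (LinearMap.ker_eq_bot.1 h1).subsingleton
    rw [← HodgeIdxLib.hh_congr (k := k) (show T.obj O ≅ M from HilbPolyLib.swapIso M O ≪≫ HilbPolyLib.unitLeft M) 1]
    exact Module.finrank_zero_of_subsingleton

/-- `H¹` of every invertible module vanishes. -/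
theorem h1_eq_zero (hq : Module.finrank k (Coh.HH S (Coh.structureModule S) 1) = 0) {M : S.Modules}
    (hM : PicF.IsInvertible M) : hh k M 1 = 0 := by
  obtain ⟨a, ha⟩ := hgen (PicGrp.cls M hM)
  rcases le_total a 0 with h | h
  · obtain ⟨m, rfl⟩ : ∃ m : ℕ, a = -(m : ℤ) := ⟨(-a).toNat, by rw [Int.toNat_of_nonneg (by omega), neg_neg]⟩
    exact h1_neg k hS hA ι hι hK hgen hq m hM ha
  · obtain ⟨m, rfl⟩ := Int.eq_ofNat_of_zero_le h
    obtain ⟨M', hM', hM'c, ⟨e⟩⟩ := exists_inverse hM
    haveI : ConnectedSpace S := inferInstance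
    rw [SurfNumLib.hh_dual ι hι hK hM (HilbPolyLib.swapIso M M' ≪≫ e) 1 (by omega),
      HodgeIdxLib.hh_congr (k := k) (HilbPolyLib.swapIso M' (Coh.structureModule S) ≪≫ HilbPolyLib.unitLeft M') _]
    exact h1_neg k hS hA ι hι hK hgen hq m hM' (by rw [hM'c, ha, ← zpow_neg])

end PicOneLib

end
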