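import Groth.Agent.PicOneLib.Tf
import Groth.Agent.SurfExtLib.CBGeom
import Groth.Agent.RefHullLib.NormalHull
import Groth.Agent.RefHullLib.RankOne
import Groth.Agent.HurwitzLib.SmoothCurve
import Groth.Agent.CohCmpLib.LineBundle

/-!
# Invertible hulls of rank one torsion free modules on a surface
-/

set_option autoImplicit false
set_option linter.style.haveILetI false
set_option linter.unusedSectionVars false
set_option backward.isDefEq.respectTransparency false
set_option backward.isDefEq.respectTransparency.types false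
universe u

open CategoryTheory CategoryTheory.Limits AlgebraicGeometry TopologicalSpace Opposite
open CohCmpLib (stk)

noncomputable section

namespace PicOneLib

variable (k : Type u) [Field k] {X : Scheme.{u}} [X.Over (Spec (CommRingCat.of k))] [IsIntegral X]
  [IsNoetherian X] [SmoothOfRelativeDimension 2 (X ↘ Spec (CommRingCat.of k))]
  (hX : topologicalKrullDim X = 2)

include k hX

/-- Maps into locally free modules extend across finitely many points. -/
theorem exists_extend_finite {A B W : X.Modules} (hA : Coh.IsCoh A) (hB : Coh.IsCoh B) (f : A ⟶ B) [Mono f]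
    (hf : topologicalKrullDim (CohB1.support (cokernel f)) ≤ 0) (hW : FlatMod.IsFinLocFree W) (h : A ⟶ W) :
    ∃ g : B ⟶ W, f ≫ g = h := by
  have hC := QCohLib.isCoh_cokernel f hA.1 hB
  have hcl := QCohLib.isClosed_support _ hC.2
  refine exists_extend f ⟨(CohB1.support (cokernel f))ᶜ, hcl.isOpen_compl⟩ (fun x hx => ?_)
    (LocSuppLib.isCoh_of_isFinLocFree hW) (fun x hx => ?_) h
  · refine ⟨FLI.sMap_injective f x, fun t => ?_⟩
    haveI : Subsingleton (stk (cokernel f) x) := SurfExtLib.subsingleton_stk hx
    exact FLI.exists_of_exact f (cokernel.π f) (cokernel.condition f) (ShortComplex.exact_cokernel f) x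
      (Subsingleton.elim _ _)
  · have hx' : x ∈ CohB1.support (cokernel f) := not_not.1 hx
    have hcp := (CurvLib.finite_isClosed_of_dim_le_zero hcl hf).2 x hx'
    haveI := SurfExtLib.regular_stalk (k := k) x
    haveI : Module.Finite (X.presheaf.stalk x) (W.presheaf.stalk x) :=
      SurfExtLib.finite_stk (LocSuppLib.isCoh_of_isFinLocFree hW) x
    haveI := MiscFlat6.free_stalk_of_isFinLocFree hW x
    exact RefHullLib.depth_reflexive _ (SurfExtLib.dim_stalk_closed (k := k) hcp).ge

theorem dim_stalk_le (x : X) : ringKrullDim (X.presheaf.stalk x) ≤ 2 :=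
  (DimIneqLib.stalk_dim_le_dim x).trans hX.le

/-- A torsion free coherent module of rank one has an invertible hull with finite cokernel. -/
theorem exists_hull {N : X.Modules} (hN : Coh.IsCoh N) (htf : TorSh.IsTorsionFree N)
    (hr : CurvLib.genRank N = 1) :
    ∃ (J : X.Modules) (j : N ⟶ J), PicF.IsInvertible J ∧ Mono j ∧
      topologicalKrullDim (CohB1.support (cokernel j)) ≤ 0 := by
  haveI : Smooth (X ↘ Spec (CommRingCat.of k)) := SmoothOfRelativeDimension.smooth 2 _
  have hn : Pi1.IsNormalScheme X := HurwitzLib.isNormalScheme_of_smooth (k := k)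
  haveI : ∀ x : X, IsDomain (X.presheaf.stalk x) := fun x => (hn x).1
  let J := RefHull.ddual N
  have hJ : Coh.IsCoh J := RefHullLib.isCoh_dual (RefHullLib.isCoh_dual hN)
  haveI : Coh.IsQCoh J := hJ.1
  have hfree : ∀ x : X, Module.Free (X.presheaf.stalk x) (J.presheaf.stalk x) := fun x => by
    haveI := SurfExtLib.regular_stalk (k := k) x
    haveI : Module.Finite (X.presheaf.stalk x) (J.presheaf.stalk x) := SurfExtLib.finite_stk hJ x
    haveI := RefHullLib.reflexive_stalk_ddual hN x
    exact RefHullLib.free_of_isReflexive_of_dim_le_two _ (lt_of_le_of_lt (dim_stalk_le k hX x) (by decide))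
  have hJf : FlatMod.IsFinLocFree J := MiscFlat6.isFP_and_free_iff.1 ⟨QCohLib.isFP_of_isCoh J hJ, hfree⟩
  have hb := RefHullLib.bijective_bidual_generic hn hN
  have hb' : Function.Bijective (FLI.sMap (RefHull.bidualMap N) (genericPoint X)) := by
    refine (congrArg Function.Bijective (funext fun w => ?_)).mpr hb
    obtain ⟨V, hx, s, rfl⟩ := TopCat.Presheaf.exists_germ_eq N.presheaf (x := genericPoint X) w
    exact (DerSch.stalkFunctor_map_germ _ (RefHull.bidualMap N) V hx s).trans
      (RefHull.stalkMapₗ_germ (RefHull.bidualMap N) _ hx s).symm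
  have hJi : PicF.IsInvertible J := (CohCmpLib.invertible_iff_rank_one J).2 (SurfExtLib.exists_rank hJf
    ((LinearEquiv.ofBijective ((DerSch.stalkFunctor X (genericPoint X)).map (RefHull.bidualMap N)).hom hb').finrank_eq.symm.trans hr))
  haveI := mono_of_generic hN htf hJ (RefHull.bidualMap N) hb'.1
  refine ⟨J, RefHull.bidualMap N, hJi, inferInstance, ?_⟩
  have hC := QCohLib.isCoh_cokernel (RefHull.bidualMap N) hN.1 hJ
  refine SurfExtLib.dim_le_zero_of_closed_points (QCohLib.isClosed_support _ hC.2) fun y hy => ?_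
  have h2 : ¬ ringKrullDim (X.presheaf.stalk y) ≤ 1 := fun h1 => by
    refine DevissLib.notMem_support_cokernel (RefHull.bidualMap N) y (fun t => ?_) hy
    obtain ⟨w, hw⟩ := RefHullLib.surjective_bidual_stalk_of_dim_le_one hn hN h1 t
    refine ⟨w, Eq.trans ?_ hw⟩
    obtain ⟨V, hx, s, rfl⟩ := TopCat.Presheaf.exists_germ_eq N.presheaf (x := y) w
    exact (DerSch.stalkFunctor_map_germ _ (RefHull.bidualMap N) V hx s).trans
      (RefHull.stalkMapₗ_germ (RefHull.bidualMap N) _ hx s).symm
  have h3 : ringKrullDim (X.presheaf.stalk y) = 2 := by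
    haveI := SurfExtLib.regular_stalk (k := k) y
    obtain ⟨d, hd⟩ : ∃ d : ℕ, ringKrullDim (X.presheaf.stalk y) = d :=
      ⟨_, ((isRegularLocalRing_iff (X.presheaf.stalk y)).1 inferInstance).symm⟩
    have hle := dim_stalk_le k hX y
    rw [hd] at h2 hle ⊢
    have e1 : ¬ d ≤ 1 := fun h => h2 (by exact_mod_cast h)
    have e2 : d ≤ 2 := by exact_mod_cast hle
    exact_mod_cast (show d = 2 by omega)
  exact isClosed_iff_clusterPt.2 (fun z hz => by
    have hspec : y ⤳ z := specializes_iff_mem_closure.2 (mem_closure_iff_clusterPt.2 hz)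
    rw [Set.mem_singleton_iff]
    exact (SurfExtLib.eq_of_specializes hX.le h3 hspec).symm)

end PicOneLib

end
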