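import Groth.Agent.PicOneLib.Hull
import Groth.Agent.StabLib.Mu
import Groth.Agent.AVAmpleLib.Degree
import Groth.Agent.SurfNumLib.RR
import Groth.Agent.EtaleChiLib.Push
import Groth.Prelude.Def_PicGrp

/-!
# Numerical classes of rank one modules on a surface whose Picard group is generated by the polarisation
-/

set_option autoImplicit false
set_option linter.style.haveILetI false
set_option linter.unusedSectionVars false
set_option backward.isDefEq.respectTransparency false
set_option backward.isDefEq.respectTransparency.types false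
universe u

open CategoryTheory CategoryTheory.Limits AlgebraicGeometry TopologicalSpace Polynomial
open StabLib (HPoly hPoly_spec hPoly_eq hPoly_congr hPoly_coker hPoly_deg hPoly_nn hPoly_add)
open CohCmpLib (stk)

noncomputable section

namespace PicOneLib

theorem coeff_comp_add {P : ℚ[X]} (h : P.natDegree ≤ 2) (a : ℚ) :
    (P.comp (Polynomial.X + C a)).coeff 2 = P.coeff 2 ∧
      (P.comp (Polynomial.X + C a)).coeff 1 = P.coeff 1 + 2 * a * P.coeff 2 := by
  obtain ⟨p, q, r, rfl⟩ : ∃ p q r, P = C p * Polynomial.X ^ 2 + C q * Polynomial.X + C r :=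
    ⟨_, _, _, eq_quadratic_of_degree_le_two (natDegree_le_iff_degree_le.1 h)⟩
  have e : (C p * Polynomial.X ^ 2 + C q * Polynomial.X + C r).comp (Polynomial.X + C a) =
      C p * Polynomial.X ^ 2 + C (q + 2 * a * p) * Polynomial.X + C (p * a ^ 2 + q * a + r) := by
    simp only [add_comp, mul_comp, C_comp, pow_comp, X_comp, map_add, map_mul, map_pow, map_ofNat]
    ring
  rw [e]
  constructor <;> simp only [coeff_add, coeff_C_mul, coeff_X_pow, coeff_X, coeff_C] <;> norm_num

variable (k : Type u) [Field k] {S : Scheme.{u}} [S.Over (Spec (CommRingCat.of k))] [IsIntegral S]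
  [IsNoetherian S] [IsProper (S ↘ Spec (CommRingCat.of k))]
  [SmoothOfRelativeDimension 2 (S ↘ Spec (CommRingCat.of k))] (hS : topologicalKrullDim S = 2)
  {L : S.Modules} (hA : CohB1.IsAmple L)

/-- The coefficient of degree one of the Hilbert polynomial. -/
def c1 (L F : S.Modules) : ℚ := (HPoly k L F).coeff 1

/-- The leading coefficient of the Hilbert polynomial. -/
def c2 (L F : S.Modules) : ℚ := (HPoly k L F).coeff 2

include k hS hA

theorem dim_le (F : S.Modules) : topologicalKrullDim (CohB1.support F) ≤ ((2 : ℕ) : WithBot ℕ∞) :=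
  (topologicalKrullDim_subspace_le S _).trans hS.le

theorem deg_le {F : S.Modules} (hF : Coh.IsCoh F) : (HPoly k L F).natDegree ≤ 2 :=
  hPoly_deg hA hF (dim_le k hS hA F)

theorem alpha_pos' : 0 < c2 k L (Coh.structureModule S) := by
  have h := HilbPolyLib.alpha_pos hA (DevissLib.isCoh_structureModule S)
    (hPoly_spec (k := k) hA (DevissLib.isCoh_structureModule S)) (d := 2)
    ((AVAmpleLib.dim_support_structureModule S).trans hS)
  simp only [StabCat.alpha, Nat.factorial_two, Nat.cast_ofNat] at h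
  exact pos_of_mul_pos_right h (by norm_num)

theorem c2_eq {F : S.Modules} (hF : Coh.IsCoh F) :
    c2 k L F = CurvLib.genRank F * c2 k L (Coh.structureModule S) := by
  have h := AVAmpleLib.alpha_eq_genRank_mul hA (g := 2) hS hF (hPoly_spec (k := k) hA hF)
    (hPoly_spec (k := k) hA (DevissLib.isCoh_structureModule S))
  simp only [StabCat.alpha, Nat.factorial_two, Nat.cast_ofNat] at h
  simp only [c2]
  linarith

theorem c1_congr {A B : S.Modules} (hB : Coh.IsCoh B) (e : A ≅ B) : c1 k L A = c1 k L B := by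
  rw [c1, c1, hPoly_congr hA (QCohLib.isCoh_of_iso e.symm hB) e]

theorem c1_finite {T : S.Modules} (hT : Coh.IsCoh T) (h : topologicalKrullDim (CohB1.support T) ≤ 0) :
    c1 k L T = 0 ∧ CurvLib.genRank T = 0 := by
  have hd := hPoly_deg (k := k) hA hT (d := 0) (by exact_mod_cast h)
  refine ⟨coeff_eq_zero_of_natDegree_lt (by omega), ?_⟩
  have h2 : c2 k L T = 0 := coeff_eq_zero_of_natDegree_lt (by omega)
  rw [c2_eq k hS hA hT] at h2
  exact_mod_cast (mul_eq_zero.1 h2).resolve_right (alpha_pos' k hS hA).ne'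

theorem c1_torsion {T : S.Modules} (hT : Coh.IsCoh T) (h : CurvLib.genRank T = 0) :
    0 ≤ c1 k L T ∧ (c1 k L T = 0 → topologicalKrullDim (CohB1.support T) ≤ 0) := by
  have h2 : c2 k L T = 0 := by rw [c2_eq k hS hA hT, h, Nat.cast_zero, zero_mul]
  have hd := deg_le k hS hA hT
  refine ⟨?_, fun h1 => ?_⟩
  · have := StabLib.alpha_pred_nonneg hd (hPoly_nn hA hT) (by simp only [StabCat.alpha]; rw [show (HPoly k L T).coeff 2 = 0 from h2, mul_zero])
    simpa [StabCat.alpha, c1] using this
  · by_cases h0 : IsZero T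
    · rw [DevissLib.support_of_isZero h0]
      haveI : IsEmpty (IrreducibleCloseds (∅ : Set S)) := ⟨fun Z => Z.isIrreducible.nonempty.elim fun x _ => x.2⟩
      simp [topologicalKrullDim, Order.krullDim_eq_bot]
    · obtain ⟨e, he⟩ := StabLib.exists_dim_eq k h0
      have hp := HilbPolyLib.alpha_pos hA hT (hPoly_spec (k := k) hA hT) he
      have he2 : e ≤ 2 := by
        have := dim_le k hS hA T
        rw [he] at this
        exact_mod_cast this
      rw [he]
      rcases e with _ | _ | _ | e
      · simp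
      · simp [StabCat.alpha, show (HPoly k L T).coeff 1 = 0 from h1] at hp
      · simp [StabCat.alpha, show (HPoly k L T).coeff 2 = 0 from h2] at hp
      · omega

theorem genRank_coker {A B : S.Modules} (f : A ⟶ B) [Mono f] (hAc : Coh.IsCoh A) (hB : Coh.IsCoh B) :
    CurvLib.genRank B = CurvLib.genRank A + CurvLib.genRank (cokernel f) ∧
      c1 k L B = c1 k L A + c1 k L (cokernel f) := by
  let T : ShortComplex S.Modules := ShortComplex.mk f (cokernel.π f) (cokernel.condition f)
  have hT : T.ShortExact :=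
    { exact := ShortComplex.exact_of_g_is_cokernel _ (cokernelIsCokernel f)
      mono_f := inferInstanceAs (Mono f)
      epi_g := inferInstanceAs (Epi (cokernel.π f)) }
  have hC := QCohLib.isCoh_cokernel f hAc.1 hB
  refine ⟨CurvLib.genRank_add (S := T) hT hAc hB hC, ?_⟩
  rw [c1, c1, c1, hPoly_coker hA f hAc hB, coeff_add]

/-- Comparison along a monomorphism of equal rank. -/
theorem c1_mono {A B : S.Modules} (f : A ⟶ B) [Mono f] (hAc : Coh.IsCoh A) (hB : Coh.IsCoh B)
    (hr : CurvLib.genRank A = CurvLib.genRank B) :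
    c1 k L A ≤ c1 k L B ∧ (c1 k L A = c1 k L B → topologicalKrullDim (CohB1.support (cokernel f)) ≤ 0) := by
  obtain ⟨e1, e2⟩ := genRank_coker k hS hA f hAc hB
  obtain ⟨h1, h2⟩ := c1_torsion k hS hA (QCohLib.isCoh_cokernel f hAc.1 hB) (by omega)
  exact ⟨by linarith, fun h => h2 (by linarith)⟩

theorem genRank_invertible {M : S.Modules} (hM : PicF.IsInvertible M)
    (h : c2 k L M = c2 k L (Coh.structureModule S)) : CurvLib.genRank M = 1 := by
  rw [c2_eq k hS hA (CurvLib.isCoh_of_isInvertible hM)] at h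
  exact_mod_cast (mul_eq_right₀ (alpha_pos' k hS hA).ne').1 h

/-- A coherent torsion free module of rank zero vanishes. -/
theorem isZero_of_rank_zero {F : S.Modules} (hF : Coh.IsCoh F) (htf : TorSh.IsTorsionFree F)
    (h : CurvLib.genRank F = 0) : IsZero F := by
  haveI := hF.1
  exact (IsZero.iff_id_eq_zero F).2 (eq_zero_of_subsingleton htf (𝟙 F) (subsingleton_of_genRank hF h))

omit hS hA in
/-- A nonzero map out of a torsion free module of rank one is a monomorphism. -/
theorem mono_of_ne_zero {A B : S.Modules} (hAc : Coh.IsCoh A) (hAtf : TorSh.IsTorsionFree A)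
    (hr : CurvLib.genRank A = 1) (hB : Coh.IsCoh B) (hBtf : TorSh.IsTorsionFree B) (f : A ⟶ B) (hf : f ≠ 0) :
    Mono f := by
  haveI := hB.1
  let η := genericPoint S
  obtain ⟨v, hv⟩ : ∃ v, FLI.sMap f η v ≠ 0 := by
    by_contra! hc
    exact hf (eq_zero_of_generic hBtf f hc)
  letI : Field (S.presheaf.stalk η) := (inferInstance : Field S.functionField)
  refine mono_of_generic hAc hAtf hB f ((injective_iff_map_eq_zero _).2 fun w hw => ?_)
  obtain ⟨c, hc⟩ := (finrank_eq_one_iff_of_nonzero' v (fun h => hv (by rw [h, map_zero]))).1 hr w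
  rw [← hc, map_smul, smul_eq_zero] at hw
  rw [← hc, hw.resolve_right hv, zero_smul]

section Pic

variable [PicGrp.Law S] (hgen : ∀ c : PicLoc.PicSet S, ∃ n : ℤ, c = PicGrp.cls L hA.1 ^ n)

/-- The Hilbert polynomial of an invertible module of class `a`. -/
theorem hPoly_class {M : S.Modules} (hM : PicF.IsInvertible M) {a : ℤ}
    (ha : PicGrp.cls M hM = PicGrp.cls L hA.1 ^ a) :
    HPoly k L M = (HPoly k L (Coh.structureModule S)).comp (Polynomial.X + C (a : ℚ)) := by
  have hMc := CurvLib.isCoh_of_isInvertible hM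
  refine eq_of_infinite_eval_eq _ _ (Set.Infinite.mono (s := (fun m : ℕ => (m : ℚ)) '' Set.Ici a.natAbs) ?_
    ((Set.Ici_infinite _).image (fun x _ y _ h => Nat.cast_injective h)))
  rintro _ ⟨m, hm, rfl⟩
  obtain ⟨p, hp⟩ : ∃ p : ℕ, (p : ℤ) = a + m := ⟨(a + m).toNat, Int.toNat_of_nonneg (by
    simp only [Set.mem_Ici] at hm; omega)⟩
  have key : (PicGrp.cls M hM * PicGrp.cls L hA.1 ^ m : PicLoc.PicSet S) = PicGrp.cls L hA.1 ^ p := by
    rw [ha, ← zpow_natCast, ← zpow_natCast, ← zpow_add, hp]
  have key' := congrArg Subtype.val key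
  rw [PicGrp.mul_val, PicGrp.cls_pow_val, PicGrp.cls_pow_val, PicGrp.cls_val, PicGrp.mulCl_cl,
    PicGrp.cl_eq_cl_iff] at key'
  obtain ⟨e⟩ := key'
  show (HPoly k L M).eval (m : ℚ) = ((HPoly k L (Coh.structureModule S)).comp _).eval (m : ℚ)
  rw [eval_comp, eval_add, eval_X, eval_C, show (m : ℚ) + (a : ℚ) = ((p : ℕ) : ℚ) by
      rw [← Int.cast_natCast (R := ℚ) p, hp]; push_cast; ring,
    ← hPoly_spec hA hMc m, ← hPoly_spec hA (DevissLib.isCoh_structureModule S) p]
  exact_mod_cast CurvLib.euler_congr (k := k) (e ≪≫ (HilbPolyLib.unitLeft (CohB1.tensorPow L p)).symm)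

theorem c1_class {M : S.Modules} (hM : PicF.IsInvertible M) {a : ℤ}
    (ha : PicGrp.cls M hM = PicGrp.cls L hA.1 ^ a) :
    c1 k L M = c1 k L (Coh.structureModule S) + 2 * (a : ℚ) * c2 k L (Coh.structureModule S) ∧
      CurvLib.genRank M = 1 := by
  obtain ⟨h2, h1⟩ := coeff_comp_add (deg_le k hS hA (DevissLib.isCoh_structureModule S)) (a : ℚ)
  have e := hPoly_class k hS hA hM ha
  exact ⟨by rw [c1, e]; exact h1, genRank_invertible k hS hA hM (by rw [c2, e]; exact h2)⟩

include hgen

/-- The class of a torsion free module of rank one. -/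
theorem exists_class {N : S.Modules} (hN : Coh.IsCoh N) (htf : TorSh.IsTorsionFree N)
    (hr : CurvLib.genRank N = 1) :
    ∃ (a : ℤ) (J : S.Modules) (hJ : PicF.IsInvertible J) (j : N ⟶ J), Mono j ∧
      topologicalKrullDim (CohB1.support (cokernel j)) ≤ 0 ∧
      PicGrp.cls J hJ = PicGrp.cls L hA.1 ^ a ∧
      c1 k L N = c1 k L (Coh.structureModule S) + 2 * (a : ℚ) * c2 k L (Coh.structureModule S) := by
  obtain ⟨J, j, hJ, hj, hd⟩ := exists_hull k hS hN htf hr
  obtain ⟨a, ha⟩ := hgen (PicGrp.cls J hJ)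
  refine ⟨a, J, hJ, j, hj, hd, ha, ?_⟩
  have hJc := CurvLib.isCoh_of_isInvertible hJ
  rw [← (c1_class k hS hA hJ ha).1, (genRank_coker k hS hA j hN hJc).2,
    (c1_finite k hS hA (QCohLib.isCoh_cokernel j hN.1 hJc) hd).1, add_zero]

end Pic

end PicOneLib

end
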