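import Groth.Agent.PicOneLib.H1
import Groth.Agent.SurfExtLib.CBCore
import Mathlib.Algebra.Homology.DerivedCategory.Ext.MapBijective

/-!
# Length one steps; extensions that are not locally free; `Ext` under twists
-/

set_option autoImplicit false
set_option linter.style.haveILetI false
set_option linter.unusedSectionVars false
set_option backward.isDefEq.respectTransparency false
set_option backward.isDefEq.respectTransparency.types false
set_option maxHeartbeats 1000000
universe u

open CategoryTheory CategoryTheory.Limits AlgebraicGeometry TopologicalSpace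
open CohCmpLib (stk)
open Abelian

noncomputable section

namespace PicOneLib

variable (k : Type u) [Field k] [IsAlgClosed k] {S : Scheme.{u}} [S.Over (Spec (CommRingCat.of k))]
  [IsIntegral S] [IsNoetherian S] [IsProper (S ↘ Spec (CommRingCat.of k))]

include k

/-- A module with finite support has a socle element at each point of its support. -/
theorem exists_socle_section {C : S.Modules} (hC : Coh.IsCoh C)
    (hd : topologicalKrullDim (CohB1.support C) ≤ 0) {z : S} (hz : z ∈ CohB1.support C) :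
    ∃ π : Coh.structureModule S ⟶ C,
      FLI.sMap π z (SurfExtLib.oneAt z) ≠ 0 ∧
      (∀ a ∈ IsLocalRing.maximalIdeal (S.presheaf.stalk z), a • FLI.sMap π z (SurfExtLib.oneAt z) = 0) ∧
      ∀ x : S, x ≠ z → FLI.sMap π x (SurfExtLib.oneAt x) = 0 := by
  obtain ⟨hf, hc⟩ := CurvLib.finite_support_data k hC hd
  haveI := CurvLib.finite_HH (k := k) hC 0
  let R := S.presheaf.stalk z
  let M := stk C z
  letI := CurvLib.stalkModule (k := k) C z
  haveI hfin : Module.Finite k M := CurvLib.finite_stalk (k := k) C hf hc subset_rfl z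
  letI : Algebra k R := (Curv2.stalkMap k S z).toAlgebra
  haveI : IsScalarTower k R M := ⟨fun c r m => mul_smul (Curv2.stalkMap k S z c) r m⟩
  haveI : IsArtinian R M := isArtinian_of_tower k (inferInstance : IsArtinian k M)
  haveI : Nontrivial M := not_subsingleton_iff_nontrivial.1 hz
  obtain ⟨W, hW, hmin⟩ := IsArtinian.set_has_minimal {W : Submodule R M | W ≠ ⊥} ⟨⊤, top_ne_bot⟩
  haveI : IsLocallyNoetherian S := inferInstance
  haveI : Module.Finite R M := SurfExtLib.finite_stk hC z
  have hkill : ∀ a ∈ IsLocalRing.maximalIdeal R, ∀ w ∈ W, a • w = 0 := by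
    intro a ha w hw
    by_contra hne
    have hle : Ideal.span {a} • W ≤ W := Submodule.smul_le_right
    have heq : Ideal.span {a} • W = W := by
      refine eq_of_le_of_not_lt hle (hmin _ fun h0 => hne ?_)
      exact (Submodule.mem_bot R).1 (h0 ▸ Submodule.smul_mem_smul (Ideal.mem_span_singleton_self a) hw)
    refine hW (Submodule.eq_bot_of_le_smul_of_le_jacobson_bot (Ideal.span {a}) W (IsNoetherian.noetherian W) heq.ge ?_)
    rw [Ideal.span_singleton_le_iff_mem, IsLocalRing.jacobson_eq_maximalIdeal ⊥ bot_ne_top]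
    exact ha
  obtain ⟨g, hgW, hg⟩ := Submodule.exists_mem_ne_zero_of_ne_bot hW
  classical
  letI := CurvLib.secModule (k := k) C
  letI := fun x : CohB1.support C => CurvLib.stalkModule (k := k) C x.1
  let e := CurvLib.secStalksEquiv (k := k) C hf hc subset_rfl
  let f : ∀ x : CohB1.support C, (DevissLib.St x.1).obj C :=
    Function.update (fun _ => 0) ⟨z, hz⟩ g
  let σ := e.symm f
  have hσ : ∀ x : CohB1.support C, DevissLib.gm C x.1 (show x.1 ∈ (⊤ : S.Opens) from trivial) σ = f x :=
    fun x => congr_fun (e.apply_symm_apply f) x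
  let π := QCohLib.unitHom C σ
  have hval : ∀ x : S, FLI.sMap π x (SurfExtLib.oneAt x) = DevissLib.gm C x (show x ∈ (⊤ : S.Opens) from trivial) σ := by
    intro x
    refine (ProjFormLib.ger_map π x (U := ⊤) trivial _).trans ?_
    exact congrArg (ProjFormLib.ger C x (U := ⊤) trivial) (GenusOneSSLib.unitHom_top σ)
  have hzv : FLI.sMap π z (SurfExtLib.oneAt z) = g := by
    rw [hval z, hσ ⟨z, hz⟩]
    exact Function.update_self (β := fun x : CohB1.support C => (DevissLib.St x.1).obj C) ⟨z, hz⟩ g _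
  refine ⟨π, by rw [hzv]; exact hg, fun a ha => by rw [hzv]; exact hkill a ha g hgW, fun x hx => ?_⟩
  by_cases hxs : x ∈ CohB1.support C
  · rw [hval x, hσ ⟨x, hxs⟩]
    exact Function.update_of_ne (β := fun x : CohB1.support C => (DevissLib.St x.1).obj C)
      (a := ⟨x, hxs⟩) (a' := ⟨z, hz⟩) (fun h => hx (congrArg Subtype.val h)) g _
  · haveI := SurfExtLib.subsingleton_stk hxs
    exact Subsingleton.elim (α := stk C x) _ _

variable [SmoothOfRelativeDimension 2 (S ↘ Spec (CommRingCat.of k))]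

/-- A step of length one above a submodule of finite colength. -/
theorem exists_step {B N : S.Modules} (hB : FlatMod.IsFinLocFree B) (hN : Coh.IsCoh N) (i : N ⟶ B) [Mono i]
    (hd : topologicalKrullDim (CohB1.support (cokernel i)) ≤ 0) (hne : ¬ IsZero (cokernel i)) :
    ∃ (z : S) (P K : S.Modules) (a : N ⟶ P) (b : P ⟶ K) (w : a ≫ b = 0),
      (ShortComplex.mk a b w).ShortExact ∧ SurfExtLib.IsPt K z ∧ Coh.IsCoh P ∧ SurfExtLib.TfStalks P := by
  have hBc := LocSuppLib.isCoh_of_isFinLocFree hB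
  have hC := QCohLib.isCoh_cokernel i hN.1 hBc
  obtain ⟨z, hz⟩ : (CohB1.support (cokernel i)).Nonempty := Set.nonempty_iff_ne_empty.2 fun he =>
    hne (DevissLib.isZero_of_support_empty he)
  have hzc := (CurvLib.finite_support_data k hC hd).2 z hz
  obtain ⟨π, hπ0, hπm, hπx⟩ := exists_socle_section k hC hd hz
  have hD := QCohLib.isCoh_cokernel π (DevissLib.isCoh_structureModule S).1 hC
  let ψ : B ⟶ cokernel π := cokernel.π i ≫ cokernel.π π
  have hP := QCohLib.isCoh_kernel ψ hBc hD.1
  let a : N ⟶ kernel ψ := kernel.lift ψ i (by simp only [ψ, cokernel.condition_assoc, zero_comp])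
  have ha : a ≫ kernel.ι ψ = i := kernel.lift_ι _ _ _
  haveI : Mono a := mono_of_mono_fac ha
  let q : ∀ x : S, stk (kernel ψ) x → stk (cokernel i) x :=
    fun x p => FLI.sMap (cokernel.π i) x (FLI.sMap (kernel.ι ψ) x p)
  have hq : ∀ (x : S) (p : stk (kernel ψ) x), ∃ d : S.presheaf.stalk x, q x p = d • FLI.sMap π x (SurfExtLib.oneAt x) := by
    intro x p
    obtain ⟨t, ht⟩ := FLI.exists_of_exact π (cokernel.π π) (cokernel.condition π) (ShortComplex.exact_cokernel π) x
      (b := q x p) (by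
        show FLI.sMap (cokernel.π π) x (FLI.sMap (cokernel.π i) x (FLI.sMap (kernel.ι ψ) x p)) = 0
        rw [← FLI.sMap_comp, ← FLI.sMap_comp, show kernel.ι ψ ≫ cokernel.π i ≫ cokernel.π π = 0 from kernel.condition ψ,
          FLI.sMap_zero])
    obtain ⟨d, rfl⟩ := SurfExtLib.exists_smul_oneAt x t
    exact ⟨d, ht.symm.trans (map_smul _ d _)⟩
  have hq0 : ∀ (x : S) (p : stk (kernel ψ) x), q x p = 0 → FLI.sMap (cokernel.π a) x p = 0 := by
    intro x p hp
    obtain ⟨n, hn⟩ := FLI.exists_of_exact i (cokernel.π i) (cokernel.condition i) (ShortComplex.exact_cokernel i) x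
      (b := FLI.sMap (kernel.ι ψ) x p) hp
    obtain rfl : FLI.sMap a x n = p := FLI.sMap_injective (kernel.ι ψ) x (by rw [← hn, ← FLI.sMap_comp, ha])
    rw [← FLI.sMap_comp, cokernel.condition, FLI.sMap_zero]
  obtain ⟨p₀, hp₀⟩ : ∃ p₀ : stk (kernel ψ) z, q z p₀ = FLI.sMap π z (SurfExtLib.oneAt z) := by
    obtain ⟨b₀, hb₀⟩ := FLI.sMap_surjective (cokernel.π i) z (FLI.sMap π z (SurfExtLib.oneAt z))
    obtain ⟨p, hp⟩ := FLI.exists_of_exact (kernel.ι ψ) ψ (kernel.condition ψ) (ShortComplex.exact_kernel ψ) z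
      (b := b₀) (by
        show FLI.sMap (cokernel.π i ≫ cokernel.π π) z b₀ = 0
        rw [FLI.sMap_comp, hb₀, ← FLI.sMap_comp, cokernel.condition, FLI.sMap_zero])
    exact ⟨p, by show FLI.sMap (cokernel.π i) z (FLI.sMap (kernel.ι ψ) z p) = _; rw [hp, hb₀]⟩
  refine ⟨z, kernel ψ, cokernel a, a, cokernel.π a, cokernel.condition a, ses_coker a,
    ⟨hzc, QCohLib.isCoh_cokernel a hN.1 hP, fun x hx => ?_, ?_, ?_⟩, hP, fun x c hc s t hst => ?_⟩
  · by_contra hxz
    refine DevissLib.notMem_support_cokernel a x (fun p => ?_) hx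
    refine FLI.exists_of_exact a (cokernel.π a) (cokernel.condition a) (ShortComplex.exact_cokernel a) x (hq0 x p ?_)
    obtain ⟨d, hd'⟩ := hq x p
    rw [hd', hπx x hxz, smul_zero]
  · refine ⟨FLI.sMap (cokernel.π a) z p₀, fun h0 => hπ0 ?_, fun t => ?_⟩
    · obtain ⟨n, hn⟩ := FLI.exists_of_exact a (cokernel.π a) (cokernel.condition a) (ShortComplex.exact_cokernel a) z
        (b := p₀) h0
      rw [← hp₀]
      show FLI.sMap (cokernel.π i) z (FLI.sMap (kernel.ι ψ) z p₀) = 0
      rw [← hn, ← FLI.sMap_comp, ← FLI.sMap_comp, reassoc_of% ha, cokernel.condition, FLI.sMap_zero]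
    · obtain ⟨p, rfl⟩ := FLI.sMap_surjective (cokernel.π a) z t
      obtain ⟨d, hd'⟩ := hq z p
      refine ⟨d, ?_⟩
      rw [← sub_eq_zero, ← map_smul, ← map_sub]
      refine hq0 z _ ?_
      show FLI.sMap (cokernel.π i) z (FLI.sMap (kernel.ι ψ) z (d • p₀ - p)) = 0
      rw [map_sub, map_sub, map_smul, map_smul]
      exact sub_eq_zero.2 ((congrArg (d • ·) hp₀).trans hd'.symm)
  · intro c hc t
    obtain ⟨p, rfl⟩ := FLI.sMap_surjective (cokernel.π a) z t
    obtain ⟨d, hd'⟩ := hq z p
    rw [← map_smul]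
    refine hq0 z _ ?_
    show FLI.sMap (cokernel.π i) z (FLI.sMap (kernel.ι ψ) z (c • p)) = 0
    rw [map_smul, map_smul]
    exact (congrArg (c • ·) hd').trans (by rw [smul_comm, hπm c hc, smul_zero])
  · refine FLI.sMap_injective (kernel.ι ψ) x (SurfExtLib.tfStalks_of_isFinLocFree hB x c hc ?_)
    show c • FLI.sMap (kernel.ι ψ) x s = c • FLI.sMap (kernel.ι ψ) x t
    rw [← map_smul, ← map_smul]
    exact congrArg _ hst

variable [HasExt.{u} S.Modules] {r : ℕ} (ι : S ⟶ CohB1.ProjSpace r k) [IsClosedImmersion ι]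

include ι in
/-- An extension class restricted from a step gives a middle term which is not locally free. -/
theorem not_finLocFree {T : ShortComplex S.Modules} (hT : T.ShortExact) {z : S} (hK : SurfExtLib.IsPt T.X₃ z)
    (hPtf : SurfExtLib.TfStalks T.X₂) (hN : Coh.IsCoh T.X₁) (hNtf : SurfExtLib.TfStalks T.X₁)
    {ω E : S.Modules} (hω : FlatMod.IsFinLocFree ω) (f : ω ⟶ E) (g : E ⟶ T.X₁) (w : f ≫ g = 0)
    (hE : (ShortComplex.mk f g w).ShortExact) (x : Ext T.X₂ ω 1)
    (hx : (Ext.mk₀ T.f).comp x (zero_add 1) = hE.extClass) : ¬ FlatMod.IsFinLocFree E := fun hEf => by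
  have hEc : Coh.IsCoh E := StabLib.isCoh_extension hE (LocSuppLib.isCoh_of_isFinLocFree hω) hN
  have hEtf : SurfExtLib.TfStalks E :=
    SurfExtLib.tfStalks_mid hE (SurfExtLib.tfStalks_of_isFinLocFree hω) hNtf
  have h0 : hT.extClass.comp hE.extClass (show 1 + 1 = 2 from rfl) = 0 := by
    rw [← hx]
    exact ShortComplex.ShortExact.extClass_comp_assoc hT x
  obtain ⟨c', hc'⟩ := Ext.covariant_sequence_exact₃ T.X₃ hE hT.extClass (n₁ := 2) rfl h0
  haveI := hK.subsingleton_ext_of_free (k := k) ι hEc hEtf (MiscFlat6.free_stalk_of_isFinLocFree hEf z)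
  exact SurfExtLib.extClass_ne_zero (k := k) hT hK hPtf (by rw [← hc', Subsingleton.elim c' 0, Ext.zero_comp])

end PicOneLib

end
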