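import Groth.Agent.PicOneLib.Numer
import Groth.Agent.CurveVBLib.Torsion

/-!
# Saturation; bounds from stability
-/

set_option autoImplicit false
set_option linter.style.haveILetI false
set_option linter.unusedSectionVars false
set_option backward.isDefEq.respectTransparency false
set_option backward.isDefEq.respectTransparency.types false
universe u

open CategoryTheory CategoryTheory.Limits AlgebraicGeometry TopologicalSpace Polynomial
open StabLib (HPoly hPoly_spec hPoly_eq)
open DevissLib (St gm)

noncomputable section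

namespace PicOneLib

variable {S : Scheme.{u}} [IsIntegral S] [IsLocallyNoetherian S]

theorem ses_kernel {A B : S.Modules} (π : A ⟶ B) [Epi π] :
    (ShortComplex.mk (kernel.ι π) π (kernel.condition π)).ShortExact :=
  { exact := ShortComplex.exact_of_f_is_kernel _ (kernelIsKernel π)
    mono_f := inferInstanceAs (Mono (kernel.ι π))
    epi_g := inferInstanceAs (Epi π) }

theorem ses_coker {A B : S.Modules} (f : A ⟶ B) [Mono f] :
    (ShortComplex.mk f (cokernel.π f) (cokernel.condition f)).ShortExact :=
  { exact := ShortComplex.exact_of_g_is_cokernel _ (cokernelIsCokernel f)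
    mono_f := inferInstanceAs (Mono f)
    epi_g := inferInstanceAs (Epi (cokernel.π f)) }

set_option maxHeartbeats 600000 in
/-- The torsion free quotient by the saturation of a submodule. -/
theorem exists_sat {A V : S.Modules} (hA : Coh.IsCoh A) (hV : Coh.IsCoh V) (s : A ⟶ V) [Mono s] :
    ∃ (N : S.Modules) (b : V ⟶ N), Epi b ∧ Coh.IsCoh N ∧ TorSh.IsTorsionFree N ∧ s ≫ b = 0 ∧
      CurvLib.genRank A + CurvLib.genRank N = CurvLib.genRank V := by
  have hQ := QCohLib.isCoh_cokernel s hA.1 hV
  have hT := CurveVBLib.isCoh_torSub hQ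
  have hrT := CurveVBLib.genRank_torSub (cokernel s)
  let t := (CurveVBLib.torSub (cokernel s)).ι
  have hQ' := QCohLib.isCoh_cokernel t hT.1 hQ
  have r1 : CurvLib.genRank V = CurvLib.genRank A + CurvLib.genRank (cokernel s) :=
    CurvLib.genRank_add (S := ShortComplex.mk s (cokernel.π s) (cokernel.condition s)) (ses_coker s) hA hV hQ
  have r2 : CurvLib.genRank (cokernel s) =
      CurvLib.genRank (CurveVBLib.torSub (cokernel s)).toModules + CurvLib.genRank (cokernel t) :=
    CurvLib.genRank_add (S := ShortComplex.mk t (cokernel.π t) (cokernel.condition t)) (ses_coker t) hT hQ hQ'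
  refine ⟨cokernel t, cokernel.π s ≫ cokernel.π t, inferInstance, hQ', fun x => ?_,
    by rw [cokernel.condition_assoc, Limits.zero_comp], by omega⟩
  haveI : NoZeroSMulDivisors (S.presheaf.stalk x) ((St x).obj (cokernel t)) := by
    refine CurveVBLib.torsionFree_of_no_rank_zero hQ' (fun H j hj hH h0 => ?_) x
    have hC := QCohLib.isCoh_cokernel j hH.1 hQ'
    have hP : Coh.IsCoh (kernel (cokernel.π t ≫ cokernel.π j)) :=
      QCohLib.isCoh_kernel (cokernel.π t ≫ cokernel.π j) hQ hC.1
    have r3 : CurvLib.genRank (cokernel s) = CurvLib.genRank (kernel (cokernel.π t ≫ cokernel.π j)) +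
        CurvLib.genRank (cokernel j) := CurvLib.genRank_add (S := ShortComplex.mk _ _ (kernel.condition (cokernel.π t ≫ cokernel.π j))) (ses_kernel _) hP hQ hC
    have r4 : CurvLib.genRank (cokernel t) = CurvLib.genRank H + CurvLib.genRank (cokernel j) :=
      CurvLib.genRank_add (S := ShortComplex.mk j (cokernel.π j) (cokernel.condition j)) (ses_coker j) hH hQ' hC
    let P := kernel (cokernel.π t ≫ cokernel.π j)
    haveI : Subsingleton (P.presheaf.stalk (genericPoint S)) :=
      subsingleton_of_genRank hP (show CurvLib.genRank (kernel (cokernel.π t ≫ cokernel.π j)) = 0 by omega)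
    have hmem : ∀ (U : S.Opens) (σ : Γ(P, U)),
        (CurveVBLib.torSub (cokernel s)).mem U ((kernel.ι (cokernel.π t ≫ cokernel.π j)).app U σ) := fun U σ h => by
      refine (DerSch.stalkFunctor_map_germ _ (kernel.ι (cokernel.π t ≫ cokernel.π j)) U h σ).symm.trans ?_
      exact (congrArg _ (Subsingleton.elim (α := P.presheaf.stalk (genericPoint S)) _ 0)).trans (map_zero _)
    have hle : kernel.ι (cokernel.π t ≫ cokernel.π j) ≫ cokernel.π t = 0 := by
      apply Scheme.Modules.hom_ext
      intro U
      ext σ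
      change (cokernel.π t).app U ((kernel.ι (cokernel.π t ≫ cokernel.π j)).app U σ) = 0
      rw [← QCohLib.LocSub.ι_lift (CurveVBLib.torSub (cokernel s)) _ (hmem U σ)]
      exact congr($(congrArg (fun q => Scheme.Modules.Hom.app q U) (cokernel.condition t)) _)
    obtain ⟨d, hd⟩ : ∃ d : cokernel j ⟶ cokernel t, cokernel.π t ≫ cokernel.π j ≫ d = cokernel.π t :=
      ⟨Abelian.epiDesc (cokernel.π t ≫ cokernel.π j) (cokernel.π t) hle,
        (Category.assoc _ _ _).symm.trans (Abelian.comp_epiDesc _ _ hle)⟩
    have hid : cokernel.π j ≫ d = 𝟙 _ := by rw [← cancel_epi (cokernel.π t), hd, Category.comp_id]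
    refine (IsZero.iff_id_eq_zero H).2 ?_
    rw [← cancel_mono j, Category.id_comp, Limits.zero_comp, ← Category.comp_id j, ← hid, cokernel.condition_assoc, Limits.zero_comp]
  exact Module.IsTorsionFree.of_smul_eq_zero (R := S.presheaf.stalk x) (M := (St x).obj (cokernel t))
    fun r m h => eq_zero_or_eq_zero_of_smul_eq_zero h

end PicOneLib

end

noncomputable section

namespace PicOneLib

variable (k : Type u) [Field k] {S : Scheme.{u}} [S.Over (Spec (CommRingCat.of k))] [IsIntegral S]
  [IsNoetherian S] [IsProper (S ↘ Spec (CommRingCat.of k))]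
  [SmoothOfRelativeDimension 2 (S ↘ Spec (CommRingCat.of k))] (hS : topologicalKrullDim S = 2)
  {L : S.Modules} (hA : CohB1.IsAmple L)

include k hS hA

/-- Stability bounds the degree of submodules of rank one. -/
theorem c1_le_of_stable {V : S.Modules} (hV : Coh.IsCoh V) (hst : ShStab.IsStable k S L V 2)
    (hr : CurvLib.genRank V = 2) {F : S.Modules} (hF : Coh.IsCoh F) (i : F ⟶ V) [Mono i]
    (hrF : CurvLib.genRank F = 1) : 2 * c1 k L F ≤ c1 k L V := by
  have hF0 : ¬ IsZero F := fun h => by
    have h1 := c2_eq k hS hA hF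
    rw [c2, StabLib.hPoly_zero hA h, hrF, coeff_zero, Nat.cast_one, one_mul] at h1
    exact (alpha_pos' k hS hA).ne h1
  have hni : ¬ IsIso i := fun h => by
    have := EtaleChiLib.genRank_congr (asIso i)
    omega
  have h := StabLib.redLT_iff 2 |>.1 (hst.2.2.2 F i inferInstance hF hF0 hni _ _ (hPoly_spec hA hF) (hPoly_spec hA hV))
  have eF : (HPoly k L F).coeff 2 = c2 k L (Coh.structureModule S) := by
    rw [← c2, c2_eq k hS hA hF, hrF, Nat.cast_one, one_mul]
  have eV : (HPoly k L V).coeff 2 = 2 * c2 k L (Coh.structureModule S) := by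
    rw [← c2, c2_eq k hS hA hV, hr, Nat.cast_ofNat]
  have hd : (StabLib.dd 2 (HPoly k L F) (HPoly k L V)).natDegree ≤ 1 := natDegree_le_iff_coeff_eq_zero.2 fun j hj => by
    simp only [StabLib.dd, StabCat.alpha, coeff_sub, coeff_smul, smul_eq_mul]
    rcases Nat.lt_or_ge 2 j with h2 | h2
    · rw [coeff_eq_zero_of_natDegree_lt ((deg_le k hS hA hF).trans_lt h2),
        coeff_eq_zero_of_natDegree_lt ((deg_le k hS hA hV).trans_lt h2), mul_zero, mul_zero, sub_zero]
    · obtain rfl : j = 2 := by omega
      rw [eF, eV]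
      ring
  have := StabLib.coeff_nonneg hd (StabLib.Ps.nn h)
  simp only [StabLib.dd, StabCat.alpha, coeff_sub, coeff_smul, smul_eq_mul, eF, eV, Nat.factorial_two,
    Nat.cast_ofNat] at this
  have hα := alpha_pos' k hS hA
  simp only [c1]
  nlinarith

/-- No maps from a stable module of rank two to an invertible module of small degree. -/
theorem eq_zero_of_stable {V : S.Modules} (hV : Coh.IsCoh V) (hst : ShStab.IsStable k S L V 2)
    (hr : CurvLib.genRank V = 2) {M : S.Modules} (hM : Coh.IsCoh M) (hMtf : TorSh.IsTorsionFree M)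
    (hrM : CurvLib.genRank M = 1) (hdeg : 2 * c1 k L M < c1 k L V) (ψ : V ⟶ M) : ψ = 0 := by
  let I := Abelian.coimage ψ
  let m : I ⟶ M := Abelian.factorThruCoimage ψ
  have hK : Coh.IsCoh (kernel ψ) := QCohLib.isCoh_kernel ψ hV hM.1
  have hI : Coh.IsCoh I := QCohLib.isCoh_cokernel (kernel.ι ψ) hK.1 hV
  obtain ⟨r1, e1⟩ := genRank_coker k hS hA (kernel.ι ψ) hK hV
  obtain ⟨r2, -⟩ := genRank_coker k hS hA m hI hM
  change CurvLib.genRank V = CurvLib.genRank (kernel ψ) + CurvLib.genRank I at r1
  change c1 k L V = c1 k L (kernel ψ) + c1 k L I at e1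
  by_contra hψ
  have hI0 : CurvLib.genRank I ≠ 0 := fun h0 => hψ (by
    rw [← Abelian.coimage.fac ψ,
      (isZero_of_rank_zero k hS hA hI (torsionFree_of_mono m hMtf) h0).eq_of_src (Abelian.factorThruCoimage ψ) 0,
      Limits.comp_zero])
  have hI1 : CurvLib.genRank I = 1 := by omega
  have hb := (c1_mono k hS hA m hI hM (hI1.trans hrM.symm)).1
  have hK1 := c1_le_of_stable k hS hA hV hst hr hK (kernel.ι ψ) (by omega)
  linarith

end PicOneLib

end
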